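import Cfsg.Agent.SL2Pres.Concrete
import Cfsg.Agent.SL3Pres.Frame
import Cfsg.Agent.Forms4.SymplecticSimple
import Cfsg.Agent.Forms.SymplecticOrder

/-!
# The standard elements of `Sp₄(F)`
-/

set_option autoImplicit false

namespace CfsgLib.Sp4Pres

open CfsgLib.SL2Pres Matrix

variable {F : Type*} [Field F]

theorem ext_blocks {A B C D A' B' C' D' : Matrix (Fin 2) (Fin 2) F} (h1 : ∀ i j, A i j = A' i j)
    (h2 : ∀ i j, B i j = B' i j) (h3 : ∀ i j, C i j = C' i j) (h4 : ∀ i j, D i j = D' i j) :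
    fromBlocks A B C D = fromBlocks A' B' C' D' := by
  rw [Matrix.ext h1, Matrix.ext h2, Matrix.ext h3, Matrix.ext h4]

theorem det_eq (g : Matrix.SpecialLinearGroup (Fin 2) F) : g.1 0 0 * g.1 1 1 - g.1 0 1 * g.1 1 0 = 1 := by
  have h := g.2
  rwa [Matrix.det_fin_two] at h

/-- The `SL₂` of the short root. -/
def embA : Matrix.SpecialLinearGroup (Fin 2) F →* Matrix.symplecticGroup (Fin 2) F where
  toFun g := ⟨fromBlocks !![g.1 0 0, g.1 0 1; g.1 1 0, g.1 1 1] 0 0 !![g.1 1 1, -g.1 1 0; -g.1 0 1, g.1 0 0], by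
    have h := det_eq g
    rw [SymplecticGroup.fromBlocks_mem_iff]
    refine ⟨?_, ?_, ?_⟩ <;> ext i j <;> fin_cases i <;> fin_cases j <;>
      simp [Matrix.mul_apply, Fin.sum_univ_two] <;> first | linear_combination h | linear_combination -h | ring1⟩
  map_one' := by
    apply Subtype.ext
    rw [Submonoid.coe_one, ← fromBlocks_one]
    refine ext_blocks ?_ ?_ ?_ ?_ <;> intro i j <;> fin_cases i <;> fin_cases j <;> simp
  map_mul' a b := by
    apply Subtype.ext
    change fromBlocks !![(a * b).1 0 0, (a * b).1 0 1; (a * b).1 1 0, (a * b).1 1 1] 0 0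
        !![(a * b).1 1 1, -(a * b).1 1 0; -(a * b).1 0 1, (a * b).1 0 0] =
      fromBlocks !![a.1 0 0, a.1 0 1; a.1 1 0, a.1 1 1] 0 0 !![a.1 1 1, -a.1 1 0; -a.1 0 1, a.1 0 0] *
      fromBlocks !![b.1 0 0, b.1 0 1; b.1 1 0, b.1 1 1] 0 0 !![b.1 1 1, -b.1 1 0; -b.1 0 1, b.1 0 0]
    rw [fromBlocks_multiply]
    refine ext_blocks ?_ ?_ ?_ ?_ <;> intro i j <;> fin_cases i <;> fin_cases j <;>
      simp [Matrix.SpecialLinearGroup.coe_mul, Matrix.mul_apply, Fin.sum_univ_two] <;> ring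

theorem coe_embA (g : Matrix.SpecialLinearGroup (Fin 2) F) :
    (embA g : Matrix.symplecticGroup (Fin 2) F).1 =
      fromBlocks !![g.1 0 0, g.1 0 1; g.1 1 0, g.1 1 1] 0 0 !![g.1 1 1, -g.1 1 0; -g.1 0 1, g.1 0 0] := rfl

/-- The `SL₂` of the long root. -/
def embB : Matrix.SpecialLinearGroup (Fin 2) F →* Matrix.symplecticGroup (Fin 2) F where
  toFun g := ⟨fromBlocks !![1, 0; 0, g.1 0 0] !![0, 0; 0, g.1 0 1] !![0, 0; 0, g.1 1 0] !![1, 0; 0, g.1 1 1], by
    have h := det_eq g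
    rw [SymplecticGroup.fromBlocks_mem_iff]
    refine ⟨?_, ?_, ?_⟩ <;> ext i j <;> fin_cases i <;> fin_cases j <;>
      simp [Matrix.mul_apply, Fin.sum_univ_two] <;> first | linear_combination h | linear_combination -h | ring1⟩
  map_one' := by
    apply Subtype.ext
    rw [Submonoid.coe_one, ← fromBlocks_one]
    refine ext_blocks ?_ ?_ ?_ ?_ <;> intro i j <;> fin_cases i <;> fin_cases j <;> simp
  map_mul' a b := by
    apply Subtype.ext
    change fromBlocks !![1, 0; 0, (a * b).1 0 0] !![0, 0; 0, (a * b).1 0 1] !![0, 0; 0, (a * b).1 1 0]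
        !![1, 0; 0, (a * b).1 1 1] =
      fromBlocks !![1, 0; 0, a.1 0 0] !![0, 0; 0, a.1 0 1] !![0, 0; 0, a.1 1 0] !![1, 0; 0, a.1 1 1] *
      fromBlocks !![1, 0; 0, b.1 0 0] !![0, 0; 0, b.1 0 1] !![0, 0; 0, b.1 1 0] !![1, 0; 0, b.1 1 1]
    rw [fromBlocks_multiply]
    refine ext_blocks ?_ ?_ ?_ ?_ <;> intro i j <;> fin_cases i <;> fin_cases j <;>
      simp [Matrix.SpecialLinearGroup.coe_mul, Matrix.mul_apply, Fin.sum_univ_two]

theorem coe_embB (g : Matrix.SpecialLinearGroup (Fin 2) F) :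
    (embB g : Matrix.symplecticGroup (Fin 2) F).1 =
      fromBlocks !![1, 0; 0, g.1 0 0] !![0, 0; 0, g.1 0 1] !![0, 0; 0, g.1 1 0] !![1, 0; 0, g.1 1 1] := rfl

/-- The torus. -/
def dT (a b : Fˣ) : Matrix.symplecticGroup (Fin 2) F :=
  ⟨fromBlocks !![(a : F), 0; 0, (b : F)] 0 0 !![((a⁻¹ : Fˣ) : F), 0; 0, ((b⁻¹ : Fˣ) : F)], by
    rw [SymplecticGroup.fromBlocks_mem_iff]
    refine ⟨?_, ?_, ?_⟩ <;> ext i j <;> fin_cases i <;> fin_cases j <;>
      simp [Matrix.mul_apply, Fin.sum_univ_two]⟩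

theorem coe_dT (a b : Fˣ) : (dT a b : Matrix.symplecticGroup (Fin 2) F).1 =
    fromBlocks !![(a : F), 0; 0, (b : F)] 0 0 !![((a⁻¹ : Fˣ) : F), 0; 0, ((b⁻¹ : Fˣ) : F)] := rfl

/-- The root elements at `a + b`. -/
def xAB (s : F) : Matrix.symplecticGroup (Fin 2) F :=
  ⟨fromBlocks 1 !![0, s; s, 0] 0 1, by
    rw [SymplecticGroup.fromBlocks_mem_iff]
    refine ⟨?_, ?_, ?_⟩ <;> ext i j <;> fin_cases i <;> fin_cases j <;>
      simp [Matrix.mul_apply, Fin.sum_univ_two]⟩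

/-- The root elements at `2a + b`. -/
def xC (s : F) : Matrix.symplecticGroup (Fin 2) F :=
  ⟨fromBlocks 1 !![s, 0; 0, 0] 0 1, by
    rw [SymplecticGroup.fromBlocks_mem_iff]
    refine ⟨?_, ?_, ?_⟩ <;> ext i j <;> fin_cases i <;> fin_cases j <;>
      simp [Matrix.mul_apply, Fin.sum_univ_two]⟩

theorem coe_xAB (s : F) : (xAB s : Matrix.symplecticGroup (Fin 2) F).1 = fromBlocks 1 !![0, s; s, 0] 0 1 := rfl

theorem coe_xC (s : F) : (xC s : Matrix.symplecticGroup (Fin 2) F).1 = fromBlocks 1 !![s, 0; 0, 0] 0 1 := rfl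

theorem dT_mul (a b a' b' : Fˣ) :
    dT a b * dT a' b' = (dT (a * a') (b * b') : Matrix.symplecticGroup (Fin 2) F) := by
  apply Subtype.ext
  simp only [Submonoid.coe_mul, coe_dT, fromBlocks_multiply]
  refine ext_blocks ?_ ?_ ?_ ?_ <;> intro i j <;> fin_cases i <;> fin_cases j <;>
    simp [Matrix.mul_apply, Fin.sum_univ_two, mul_comm]

theorem dT_one : (dT 1 1 : Matrix.symplecticGroup (Fin 2) F) = 1 := by
  apply Subtype.ext
  rw [Submonoid.coe_one, ← fromBlocks_one, coe_dT]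
  refine ext_blocks ?_ ?_ ?_ ?_ <;> intro i j <;> fin_cases i <;> fin_cases j <;> simp

theorem dT_inv (a b : Fˣ) : (dT a b : Matrix.symplecticGroup (Fin 2) F)⁻¹ = dT a⁻¹ b⁻¹ :=
  inv_eq_of_mul_eq_one_right (by rw [dT_mul, mul_inv_cancel, mul_inv_cancel, dT_one])

theorem dT_pow (a b : Fˣ) (n : ℕ) : (dT a b : Matrix.symplecticGroup (Fin 2) F) ^ n = dT (a ^ n) (b ^ n) := by
  induction n with
  | zero => simp [dT_one]
  | succ n ih => rw [pow_succ, ih, dT_mul, pow_succ, pow_succ]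

theorem embA_hD (a : Fˣ) : embA (hD a) = (dT a a⁻¹ : Matrix.symplecticGroup (Fin 2) F) := by
  apply Subtype.ext
  simp only [coe_embA, coe_dT, coe_hD]
  refine ext_blocks ?_ ?_ ?_ ?_ <;> intro i j <;> fin_cases i <;> fin_cases j <;> simp

theorem embB_hD (a : Fˣ) : embB (hD a) = (dT 1 a : Matrix.symplecticGroup (Fin 2) F) := by
  apply Subtype.ext
  simp only [coe_embB, coe_dT, coe_hD]
  refine ext_blocks ?_ ?_ ?_ ?_ <;> intro i j <;> fin_cases i <;> fin_cases j <;> simp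

theorem dT_xa (a b : Fˣ) (s : F) :
    dT a b * embA (xU s) * (dT a b)⁻¹ = (embA (xU (((a * b⁻¹ : Fˣ) : F) * s)) : Matrix.symplecticGroup (Fin 2) F) := by
  rw [mul_inv_eq_iff_eq_mul]
  apply Subtype.ext
  simp only [Submonoid.coe_mul, coe_dT, coe_embA, coe_xU, fromBlocks_multiply]
  refine ext_blocks ?_ ?_ ?_ ?_ <;> intro i j <;> fin_cases i <;> fin_cases j <;>
    simp [Matrix.mul_apply, Fin.sum_univ_two] <;> field_simp

theorem dT_xb (a b : Fˣ) (s : F) :
    dT a b * embB (xU s) * (dT a b)⁻¹ = (embB (xU (((b ^ 2 : Fˣ) : F) * s)) : Matrix.symplecticGroup (Fin 2) F) := by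
  rw [mul_inv_eq_iff_eq_mul]
  apply Subtype.ext
  simp only [Submonoid.coe_mul, coe_dT, coe_embB, coe_xU, fromBlocks_multiply]
  refine ext_blocks ?_ ?_ ?_ ?_ <;> intro i j <;> fin_cases i <;> fin_cases j <;>
    simp [Matrix.mul_apply, Fin.sum_univ_two] <;> field_simp

theorem wA_dT (a b : Fˣ) : embA wW * dT a b * (embA wW)⁻¹ = (dT b a : Matrix.symplecticGroup (Fin 2) F) := by
  rw [mul_inv_eq_iff_eq_mul]
  apply Subtype.ext
  simp only [Submonoid.coe_mul, coe_dT, coe_embA, coe_wW, fromBlocks_multiply]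
  refine ext_blocks ?_ ?_ ?_ ?_ <;> intro i j <;> fin_cases i <;> fin_cases j <;>
    simp [Matrix.mul_apply, Fin.sum_univ_two]

theorem wB_dT (a b : Fˣ) : embB wW * dT a b * (embB wW)⁻¹ = (dT a b⁻¹ : Matrix.symplecticGroup (Fin 2) F) := by
  rw [mul_inv_eq_iff_eq_mul]
  apply Subtype.ext
  simp only [Submonoid.coe_mul, coe_dT, coe_embB, coe_wW, fromBlocks_multiply]
  refine ext_blocks ?_ ?_ ?_ ?_ <;> intro i j <;> fin_cases i <;> fin_cases j <;>
    simp [Matrix.mul_apply, Fin.sum_univ_two]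

theorem wA_wB : embA wW * embB wW * (embA wW * embB wW) =
    embB wW * embA wW * (embB wW * (embA wW : Matrix.symplecticGroup (Fin 2) F)) := by
  apply Subtype.ext
  simp only [Submonoid.coe_mul, coe_embA, coe_embB, coe_wW, fromBlocks_multiply]
  refine ext_blocks ?_ ?_ ?_ ?_ <;> intro i j <;> fin_cases i <;> fin_cases j <;>
    simp [Matrix.mul_apply, Fin.sum_univ_two]

theorem wB_xa (s : F) : embB wW * embA (xU (-s)) * (embB wW)⁻¹ = (xAB s : Matrix.symplecticGroup (Fin 2) F) := by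
  rw [mul_inv_eq_iff_eq_mul]
  apply Subtype.ext
  simp only [Submonoid.coe_mul, coe_embA, coe_embB, coe_wW, coe_xU, coe_xAB, fromBlocks_multiply]
  refine ext_blocks ?_ ?_ ?_ ?_ <;> intro i j <;> fin_cases i <;> fin_cases j <;>
    simp [Matrix.mul_apply, Fin.sum_univ_two]

theorem wA_xb (s : F) : embA wW * embB (xU s) * (embA wW)⁻¹ = (xC s : Matrix.symplecticGroup (Fin 2) F) := by
  rw [mul_inv_eq_iff_eq_mul]
  apply Subtype.ext
  simp only [Submonoid.coe_mul, coe_embA, coe_embB, coe_wW, coe_xU, coe_xC, fromBlocks_multiply]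
  refine ext_blocks ?_ ?_ ?_ ?_ <;> intro i j <;> fin_cases i <;> fin_cases j <;>
    simp [Matrix.mul_apply, Fin.sum_univ_two]

theorem wA_xAB (s : F) : embA wW * xAB s * (embA wW)⁻¹ = (xAB (-s) : Matrix.symplecticGroup (Fin 2) F) := by
  rw [mul_inv_eq_iff_eq_mul]
  apply Subtype.ext
  simp only [Submonoid.coe_mul, coe_embA, coe_wW, coe_xAB, fromBlocks_multiply]
  refine ext_blocks ?_ ?_ ?_ ?_ <;> intro i j <;> fin_cases i <;> fin_cases j <;>
    simp [Matrix.mul_apply, Fin.sum_univ_two]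

theorem wB_xC (s : F) : Commute (embB wW) (xC s : Matrix.symplecticGroup (Fin 2) F) := by
  apply Subtype.ext
  simp only [Submonoid.coe_mul, coe_embB, coe_wW, coe_xC, fromBlocks_multiply]
  refine ext_blocks ?_ ?_ ?_ ?_ <;> intro i j <;> fin_cases i <;> fin_cases j <;>
    simp [Matrix.mul_apply, Fin.sum_univ_two]

theorem xa_xb (s t : F) : embA (xU s) * embB (xU t) =
    xC (s * s * t) * xAB (s * t) * embB (xU t) * (embA (xU s) : Matrix.symplecticGroup (Fin 2) F) := by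
  apply Subtype.ext
  simp only [Submonoid.coe_mul, coe_embA, coe_embB, coe_xU, coe_xC, coe_xAB, fromBlocks_multiply]
  refine ext_blocks ?_ ?_ ?_ ?_ <;> intro i j <;> fin_cases i <;> fin_cases j <;>
    simp [Matrix.mul_apply, Fin.sum_univ_two] <;> ring

theorem xa_xAB (s t : F) : embA (xU s) * xAB t =
    xC (2 * s * t) * xAB t * (embA (xU s) : Matrix.symplecticGroup (Fin 2) F) := by
  apply Subtype.ext
  simp only [Submonoid.coe_mul, coe_embA, coe_xU, coe_xC, coe_xAB, fromBlocks_multiply]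
  refine ext_blocks ?_ ?_ ?_ ?_ <;> intro i j <;> fin_cases i <;> fin_cases j <;>
    simp [Matrix.mul_apply, Fin.sum_univ_two] <;> ring

theorem xa_xC (s t : F) : Commute (embA (xU s)) (xC t : Matrix.symplecticGroup (Fin 2) F) := by
  apply Subtype.ext
  simp only [Submonoid.coe_mul, coe_embA, coe_xU, coe_xC, fromBlocks_multiply]
  refine ext_blocks ?_ ?_ ?_ ?_ <;> intro i j <;> fin_cases i <;> fin_cases j <;>
    simp [Matrix.mul_apply, Fin.sum_univ_two]

theorem xb_xAB (s t : F) : Commute (embB (xU s)) (xAB t : Matrix.symplecticGroup (Fin 2) F) := by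
  apply Subtype.ext
  simp only [Submonoid.coe_mul, coe_embB, coe_xU, coe_xAB, fromBlocks_multiply]
  refine ext_blocks ?_ ?_ ?_ ?_ <;> intro i j <;> fin_cases i <;> fin_cases j <;>
    simp [Matrix.mul_apply, Fin.sum_univ_two, add_comm]

theorem xb_xC (s t : F) : Commute (embB (xU s)) (xC t : Matrix.symplecticGroup (Fin 2) F) := by
  apply Subtype.ext
  simp only [Submonoid.coe_mul, coe_embB, coe_xU, coe_xC, fromBlocks_multiply]
  refine ext_blocks ?_ ?_ ?_ ?_ <;> intro i j <;> fin_cases i <;> fin_cases j <;>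
    simp [Matrix.mul_apply, Fin.sum_univ_two]

theorem spTransv_e1 (c : F) :
    CfsgLib.Forms.spTransv (Pi.single (Sum.inl (0 : Fin 2)) 1 : Fin 2 ⊕ Fin 2 → F) c = xC c := by
  apply Subtype.ext
  show Cfsg.sympTransvection 2 _ c = fromBlocks 1 !![c, 0; 0, 0] 0 1
  ext (i | i) (j | j) <;> fin_cases i <;> fin_cases j <;>
    simp [Cfsg.sympTransvection, Matrix.vecMulVec, Matrix.J, Matrix.mulVec, dotProduct, Fintype.sum_sum_type,
      Fin.sum_univ_two, Pi.single_apply, Matrix.one_apply]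

/-- Generators of `Sp₄(F)`. -/
theorem closure_gen : Subgroup.closure (Set.range (fun t : F => (embA (xU t) : Matrix.symplecticGroup (Fin 2) F)) ∪
    Set.range (fun t : F => (embB (xU t) : Matrix.symplecticGroup (Fin 2) F)) ∪ {embA wW, embB wW}) = ⊤ := by
  set S := Set.range (fun t : F => (embA (xU t) : Matrix.symplecticGroup (Fin 2) F)) ∪
    Set.range (fun t : F => (embB (xU t) : Matrix.symplecticGroup (Fin 2) F)) ∪ {embA wW, embB wW}
  set H := Subgroup.closure S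
  have hxa : ∀ t, embA (xU t) ∈ H := fun t => Subgroup.subset_closure (Or.inl (Or.inl ⟨t, rfl⟩))
  have hxb : ∀ t, embB (xU t) ∈ H := fun t => Subgroup.subset_closure (Or.inl (Or.inr ⟨t, rfl⟩))
  have hwa : embA wW ∈ H := Subgroup.subset_closure (Or.inr (Or.inl rfl))
  have hwb : embB wW ∈ H := Subgroup.subset_closure (Or.inr (Or.inr rfl))
  have hA : ∀ g, embA g ∈ H := by
    intro g
    have hg : g ∈ H.comap embA := by
      have : (⊤ : Subgroup (Matrix.SpecialLinearGroup (Fin 2) F)) ≤ H.comap embA := by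
        rw [← closure_xU_wW (F := F), Subgroup.closure_le]
        rintro _ (⟨t, rfl⟩ | rfl)
        · exact hxa t
        · exact hwa
      exact this trivial
    exact hg
  have hAB : ∀ s, xAB s ∈ H := fun s => wB_xa s ▸ mul_mem (mul_mem hwb (hxa _)) (inv_mem hwb)
  have hC : ∀ s, xC s ∈ H := fun s => wA_xb s ▸ mul_mem (mul_mem hwa (hxb _)) (inv_mem hwa)
  have comp : ∀ (A B : Matrix.symplecticGroup (Fin 2) F) (x : Fin 2 ⊕ Fin 2 → F),
      (A * B).1 *ᵥ x = A.1 *ᵥ (B.1 *ᵥ x) := fun A B x => by rw [Submonoid.coe_mul, Matrix.mulVec_mulVec]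
  let tgt : Fin 2 ⊕ Fin 2 → F := Sum.elim ![0, 0] ![1, 0]
  have h3 : ∀ x : Fin 2 → F, ∃ g ∈ H, g.1 *ᵥ Sum.elim x ![1, 0] = tgt := by
    intro x
    refine ⟨xC (-(x 0)) * xAB (-(x 1)), mul_mem (hC _) (hAB _), ?_⟩
    rw [comp, coe_xC, coe_xAB, fromBlocks_mulVec, fromBlocks_mulVec]
    funext i
    rcases i with i | i <;> fin_cases i <;> simp [tgt, Matrix.mulVec, dotProduct, Fin.sum_univ_two]
  have h2 : ∀ x y : Fin 2 → F, y ≠ 0 → ∃ g ∈ H, g.1 *ᵥ Sum.elim x y = tgt := by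
    intro x y hy
    obtain ⟨g, hg⟩ : ∃ g : Matrix.SpecialLinearGroup (Fin 2) F,
        !![g.1 1 1, -g.1 1 0; -g.1 0 1, g.1 0 0] *ᵥ y = ![1, 0] := by
      by_cases h0 : y 0 = 0
      · have h1 : y 1 ≠ 0 := fun h1 => hy (by funext i; fin_cases i <;> assumption)
        refine ⟨⟨!![0, y 1; -(y 1)⁻¹, 0], by simp [Matrix.det_fin_two, h1]⟩, ?_⟩
        funext i
        fin_cases i <;> simp [Matrix.mulVec, dotProduct, Fin.sum_univ_two, h0, h1]
      · refine ⟨⟨!![y 0, y 1; 0, (y 0)⁻¹], by simp [Matrix.det_fin_two, h0]⟩, ?_⟩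
        funext i
        fin_cases i <;> simp [Matrix.mulVec, dotProduct, Fin.sum_univ_two, h0] <;> ring
    obtain ⟨g', hg', hg''⟩ := h3 (!![g.1 0 0, g.1 0 1; g.1 1 0, g.1 1 1] *ᵥ x)
    refine ⟨g' * embA g, mul_mem hg' (hA g), ?_⟩
    rw [comp, coe_embA, fromBlocks_mulVec, ← hg'']
    simp [hg]
  have h1 : ∀ w : Fin 2 ⊕ Fin 2 → F, w ≠ 0 → ∃ g ∈ H, g.1 *ᵥ w = tgt := by
    intro w hw
    by_cases hy : w ∘ Sum.inr = 0
    · have hx : w (Sum.inl 0) ≠ 0 ∨ w (Sum.inl 1) ≠ 0 := by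
        by_contra h
        push Not at h
        refine hw (funext fun i => ?_)
        rcases i with i | i
        · fin_cases i
          · exact h.1
          · exact h.2
        · exact congrFun hy i
      obtain ⟨e, he, hne⟩ : ∃ e ∈ H, (e.1 *ᵥ w) ∘ Sum.inr ≠ 0 := by
        have hy0 : ∀ i, w (Sum.inr i) = 0 := fun i => congrFun hy i
        by_cases h1 : w (Sum.inl 1) = 0
        · refine ⟨embB wW * embA wW, mul_mem hwb hwa, fun h => ?_⟩
          have := congrFun h 1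
          rw [comp, coe_embA, coe_embB, coe_wW] at this
          simp [fromBlocks_multiply, Matrix.mul_apply, Matrix.mulVec, dotProduct, Fintype.sum_sum_type, Fin.sum_univ_two, hy0, h1] at this
          exact hx.elim (fun h => h this) (fun h => h h1)
        · refine ⟨embB wW, hwb, fun h => ?_⟩
          have := congrFun h 1
          rw [coe_embB, coe_wW] at this
          simp [Matrix.mulVec, dotProduct, Fintype.sum_sum_type, Fin.sum_univ_two, hy0] at this
          exact h1 this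
      obtain ⟨g, hg, hge⟩ := h2 _ _ hne
      refine ⟨g * e, mul_mem hg he, ?_⟩
      rw [comp, ← hge, Sum.elim_comp_inl_inr]
    · obtain ⟨g, hg, hge⟩ := h2 (w ∘ Sum.inl) _ hy
      rw [Sum.elim_comp_inl_inr] at hge
      exact ⟨g, hg, hge⟩
  rw [eq_top_iff, ← CfsgLib.Forms.transvGroup_eq_top, CfsgLib.Forms.transvGroup, Subgroup.closure_le]
  rintro _ ⟨w, -, c, rfl⟩
  rcases eq_or_ne w 0 with rfl | hw
  · have : CfsgLib.Forms.spTransv (0 : Fin 2 ⊕ Fin 2 → F) c = 1 :=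
      CfsgLib.Forms.sp_ext fun x => by
        simp [CfsgLib.Forms.spTransv, CfsgLib.Forms.sympTransvection_mulVec]
    rw [this]; exact one_mem _
  · obtain ⟨g, hg, hge⟩ := h1 w hw
    obtain ⟨g0, hg0, hge0⟩ := h1 (Pi.single (Sum.inl (0 : Fin 2)) 1) (by simp)
    have hw' : (g⁻¹ * g0).1 *ᵥ Pi.single (Sum.inl (0 : Fin 2)) 1 = w := by
      rw [comp, hge0, ← hge, ← comp, inv_mul_cancel, Submonoid.coe_one, Matrix.one_mulVec]
    rw [← hw', ← CfsgLib.Forms4.conj_spTransv, spTransv_e1]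
    exact mul_mem (mul_mem (mul_mem (inv_mem hg) hg0) (hC c)) (inv_mem (mul_mem (inv_mem hg) hg0))

end CfsgLib.Sp4Pres
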